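import Mathlib
import Cfsg.Agent.GMS.Blk
import Cfsg.Agent.L2S.Fin
import Cfsg.Agent.L2S.E8U

/-! The final identifications in characteristic two, with the list of the five families. -/

set_option autoImplicit false
set_option linter.unusedSectionVars false
set_option linter.unusedVariables false

namespace Cfsg.Agent.GMS

open Cfsg Cfsg.Agent.GT Cfsg.Agent.Loc.Mss Cfsg.Agent.StdB Cfsg.Agent.L2S Subgroup
open scoped commutatorElement MatrixGroups

variable {G : Type*} [Group G] [Finite G]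

theorem lie5_of_finZ {X Q : Subgroup G} [IsSimpleGroup X] (hf : FinZ X) (hQ : IsPGroup 2 Q)
    (hX : Q ≤ X) (hna : ¬ Q ≤ 𝐂[Q]) (h8 : 8 < Nat.card Q) :
    Lie5 X := by
  obtain ⟨S, B, hS, h1, h2, h3, h4⟩ := hf
  obtain ⟨P, hP, -⟩ := hS.exists_sylow
  obtain ⟨g, -, hg⟩ := hS.conj_le hQ hX
  have hBX := h3.trans hS.le
  rcases CL2.trichotomy P (A := B.subgroupOf X) (hP ▸ fun b hb => h3 hb)
    (Gold.SC.of_isStronglyClosed P (hP ▸ ⟨fun b hb => h3 hb, fun b hb g hg => h4 b hb g g.2 hg⟩))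
    (commutator_le.2 fun a ha b hb => mem_cent.2 fun k hk => Subtype.ext
      (mem_cent.1 (h2 (commutator_mem_commutator ha hb)) k hk))
    (fun e => h1 (by rwa [subgroupOf_eq_bot, disjoint_iff, inf_eq_left.2 hBX] at e)) with
    h5 | ⟨H, hH⟩ | ⟨T, hT, h5⟩
  · exfalso
    refine hna fun a ha => mem_cent.2 fun b hb => ?_
    have ha' := hg (conj_mem_cj ha)
    have hb' := hg (conj_mem_cj hb)
    have := congrArg (fun y : (P : Subgroup X) => ((y : X) : G)) (h5.1.1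
      (⟨⟨_, hS.le hb'⟩, hP ▸ hb'⟩ : (P : Subgroup X)) ⟨⟨_, hS.le ha'⟩, hP ▸ ha'⟩)
    change g * b * g⁻¹ * (g * a * g⁻¹) = g * a * g⁻¹ * (g * b * g⁻¹) at this
    rwa [conj_mul, conj_mul, mul_left_inj, mul_right_inj] at this
  · have hn : ¬ IsMulCommutative X := fun h => hna fun a ha => mem_cent.2 fun b hb =>
      congrArg Subtype.val (h.1.1 (⟨b, hX hb⟩ : X) ⟨a, hX ha⟩)
    rcases Inv.BS2.bender_simple hn hH with h | h | h
    · exact Or.inl h
    · exact Or.inr (Or.inl h)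
    · exact Or.inr (Or.inr (Or.inl h))
  · rcases blk_of_minSC h5 with ⟨h6, h7⟩ | h6
    · exfalso
      rw [← h6.2.2 _ P.2 (hT.trans (hP ▸ fun b hb => h3 hb)) le_top, hP,
        Nat.card_congr (subgroupOfEquivOfLe hS.le).toEquiv] at h7
      have := card_le_of_le hg
      rw [card_cj] at this
      omega
    · exact Or.inr (Or.inr (Or.inr h6))

theorem fin_ab' {X S : Subgroup G} (hX : IsSimpleGroup X) (hn : ¬ IsMulCommutative X)
    (hS : Syl 2 S X) (hc : S ≤ 𝐂[S]) (h8 : 8 ≤ Nat.card S) (h : 16 ≤ Nat.card S ∨ 5 ∣ Nat.card X) :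
    Lie5 X ∨ (Nat.card S = 8 ∧ Spor.IsoJ1 X) := by
  obtain ⟨P, hP, -⟩ := hS.exists_sylow
  obtain ⟨k, hk⟩ := IsPGroup.iff_card.1 hS.pg
  have hd : ∀ j, 2 ^ j ≤ Nat.card S → 2 ^ j ∣ Nat.card X := fun j hj => by
    rw [hk] at hj
    exact ((pow_dvd_pow 2 ((Nat.pow_le_pow_iff_right one_lt_two).1 hj)).trans hk.symm.dvd).trans
      (card_dvd_of_le hS.le)
  have d8 : 8 ∣ Nat.card X := hd 3 h8
  rcases Wal.walter_iso hn (Wal.abSyl_of_sylow (S := P) ⟨⟨fun a b => Subtype.ext (Subtype.ext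
      (mem_centralizer_iff.1 (hc (show (b.1 : G) ∈ S from (hP.le b.2 :))) _
        (show (a.1 : G) ∈ S from (hP.le a.2 :))))⟩⟩) with
    ⟨K, _, _, ⟨a, ha, hK⟩, ⟨f⟩⟩ | ⟨K, _, _, ⟨-, hK⟩, ⟨f⟩⟩ | hw | hw
  · exact Or.inl (Or.inl ⟨K, inferInstance, inferInstance, a, ha, hK, ⟨f⟩⟩)
  · refine absurd d8 (FinP.odd_l2 hK ?_)
    rw [Nat.card_congr f.toEquiv, ← Nat.card_eq_fintype_card]
    exact Cl.card_psl_two_mul
  · rcases h with h | h
    · exact absurd (hd 4 h) (J1S.NoEl.ree hw)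
    · exact absurd h (FinP.ree_five hw)
  · refine Or.inr ⟨?_, hw⟩
    obtain ⟨f⟩ := hw
    have h16 : ¬ 16 ≤ Nat.card S := fun h' =>
      absurd (hd 4 h') (by rw [Nat.card_congr f.toEquiv, Spor.MJ1.card_J1]; decide)
    rw [hk] at h8 h16 ⊢
    have k3 : 3 ≤ k := (Nat.pow_le_pow_iff_right one_lt_two).1 (show 2 ^ 3 ≤ 2 ^ k from h8)
    have k4 : ¬ 4 ≤ k := fun h' => h16 (Nat.pow_le_pow_right (n := 2) two_pos h')
    obtain rfl : k = 3 := by omega
    rfl

theorem fin_lie' {X : Subgroup G} (hX : IsSimpleGroup X) (hn : ¬ IsMulCommutative X) (hf : FinZ X)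
    (h : 16 ∣ Nat.card X) : Lie5 X := by
  obtain ⟨S, hS⟩ := Syl.exists 2 X
  obtain ⟨P, hP, -⟩ := hS.exists_sylow
  have h16 : 16 ≤ Nat.card S := by
    have h1 : 2 ^ 4 ∣ Nat.card P := P.pow_dvd_card_of_pow_dvd_card (n := 4) h
    rw [hP, Nat.card_congr (subgroupOfEquivOfLe hS.le).toEquiv] at h1
    exact Nat.le_of_dvd Nat.card_pos h1
  by_cases hc : S ≤ 𝐂[S]
  · rcases fin_ab' hX hn hS hc (by omega) (Or.inl h16) with h1 | ⟨h1, -⟩
    · exact h1
    · omega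
  · exact lie5_of_finZ hf hS.pg hS.le hc (by omega)

theorem not_eight (c : E8.Cfg G) (e : c.X ≃* alternatingGroup (Fin 8)) : False := by
  obtain ⟨x, hx, h9⟩ := c.nine
  have hxX : x ∈ c.X := c.mem_X_of_odd (by rw [h9]; decide)
  set σ : Equiv.Perm (Fin 8) := (e ⟨x, hxX⟩).1 with hσ
  have h1 : orderOf σ = 9 := by
    rw [hσ, Subgroup.orderOf_coe, MulEquiv.orderOf_eq, ← Subgroup.orderOf_coe, h9]
  have h2 : σ ^ 3 = 1 := by
    rw [← orderOf_dvd_iff_pow_eq_one, ← Equiv.Perm.lcm_cycleType, Multiset.lcm_dvd]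
    intro n hn
    have h3 := Equiv.Perm.dvd_of_mem_cycleType hn
    have h4 := (Equiv.Perm.le_card_support_of_mem_cycleType hn).trans (Finset.card_le_univ _)
    rw [h1] at h3
    rw [Fintype.card_fin] at h4
    interval_cases n <;> omega
  have := orderOf_dvd_of_pow_eq_one h2
  rw [h1] at this
  omega

open E8U in
theorem no_ut4 {c : E8.Cfg G} (d : c.LD) (h : d.r = 0) (e : Inv.UT4 ≃* d.T') :
    False := by
  obtain ⟨e0⟩ := P4.ps_zero_ut4
  have := c.simple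
  let ι : P4.PS 0 →* c.X := (inclusion d.sylT'.le).comp (e0.trans e).toMonoidHom
  have hι : Function.Injective ι := (inclusion_injective d.sylT'.le).comp (e0.trans e).injective
  have hr : ∀ p ∈ d.T', ∃ a, (ι a : G) = p := fun p hp =>
    ⟨(e0.trans e).symm ⟨p, hp⟩, congrArg Subtype.val ((e0.trans e).apply_symm_apply ⟨p, hp⟩)⟩
  have hs : Syl 2 ((⊤ : Subgroup (P4.PS 0)).map ι) ⊤ := by
    have := d.sylT'.subgroupOf (K := c.X) le_rfl
    rw [subgroupOf_self] at this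
    convert this using 1
    ext x
    refine ⟨?_, fun hx => ?_⟩
    · rintro ⟨a, -, rfl⟩
      exact ((e0.trans e) a).2
    · obtain ⟨a, ha⟩ := hr x hx
      exact ⟨a, trivial, Subtype.ext ha⟩
  have nc := E8U.nc d
  have hZ : center c.X = ⊥ := (inferInstance : (center c.X).Normal).eq_bot_or_eq_top.resolve_right
    fun k => nc fun a b => mem_center_iff.1 (k ▸ mem_top b) a
  have hσ : orderOf (⟨c.σ, c.σ_X⟩ : c.X) = 7 := by
    have : Fact (Nat.Prime 7) := ⟨by norm_num⟩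
    exact orderOf_eq_prime (Subtype.ext c.σ7) fun k => c.σ_ne (congrArg Subtype.val k)
  have h7 : 7 ∣ Nat.card c.X := hσ ▸ orderOf_dvd_natCard _
  have hR : pResidualOf 2 (⊤ : Subgroup c.X) = ⊤ :=
    (pResidualOf_normal (p := 2) ⊤).eq_bot_or_eq_top.resolve_left fun k => by
      have h1 : (⟨c.σ, c.σ_X⟩ : c.X) ∈ pResidualOf 2 (⊤ : Subgroup c.X) :=
        mem_res (mem_top _) (by rw [hσ]; norm_num)
      rw [k, mem_bot] at h1
      exact c.σ_ne (congrArg Subtype.val h1)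
  have hO : oddCore c.X = ⊥ := FG.C1.oddCore_eq_bot ((by norm_num : 2 ∣ 8).trans
      (c.card_E ▸ card_dvd_of_le c.E_le_X))
  have hz0 : IsConj (ι (P4.PS.z 0)) (eX c (1, 0, 0)) := conj_of_cent d (y := ι (P4.PS.z 0))
    (by rw [← map_mul, P4.PS.z_sq, map_one])
    (fun k => P4.PS.z_ne_one (hι (k.trans ι.map_one.symm))) (fun p hp => by
      obtain ⟨a, rfl⟩ := hr p hp
      rw [← coe_mul, ← map_mul, P4.PS.z_comm, map_mul, coe_mul]) (x := (1, 0, 0))
    (by decide)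
  by_cases hsol : Group.IsSolvable (GW.Cen (ι (P4.PS.z 0)))
  · obtain ⟨S, hS, hS'⟩ := d.sylT'.exists_sylow
    have hc : pCore 2 c.X = ⊥ := pCore_eq_bot_iff.2 fun N hN hp =>
      hN.eq_bot_or_eq_top.resolve_right fun k => by
        obtain ⟨n, hn⟩ := IsPGroup.iff_card.1 hp
        rw [k, card_top] at hn
        rw [hn] at h7
        have := Nat.Prime.dvd_of_dvd_pow (by norm_num : Nat.Prime 7) h7
        omega
    have eS : (S : Subgroup c.X) ≃* d.T' :=
      (MulEquiv.subgroupCongr hS).trans (subgroupOfEquivOfLe d.sylT'.le)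
    rcases S2918.result (pResidualOf_top.symm.trans hR) hc hO S (fun P => by
        obtain ⟨e8⟩ := Inv.UT4.nonempty_sylow_equiv P
        exact ⟨(eS.trans e.symm).trans e8.symm⟩) (fun y hy hc' h2 => by
        have yy : y * y = 1 := by rw [← pow_two, ← h2, pow_orderOf_eq_one]
        have y1 : y ≠ 1 := fun k => by rw [k, orderOf_one] at h2; omega
        have h3 := conj_of_cent d yy y1 (fun p hp => congrArg Subtype.val
          (hc' ⟨p, d.sylT'.le hp⟩ (by rw [hS]; exact hp))) (x := (1, 0, 0)) (by decide)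
        exact solv_conj (hz0.trans h3.symm) hsol) with ⟨⟨e8⟩⟩ | ⟨⟨e9⟩⟩ | ⟨F, _, _, hF, ⟨e4⟩⟩
    · exact not_eight c e8
    · exact (not_nine c e9).elim
    · exact (card_s43 hF (Nat.card_congr e4.toEquiv ▸ h7)).elim
  exfalso
  obtain ⟨z, s, π, F, _, _, σ, hp⟩ := P4.exists_pre (ι := ι) ⟨hι, hs⟩ (fun g => hR.ge (mem_top g))
    hO hZ (Or.inr hsol)
  have b := hp.bal
  obtain ⟨g, hg⟩ := b.syl _ hs.pg
  have k : ∀ x : J1S.V3, x ≠ 0 → IsConj z (eX c x) := fun x hx => by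
    refine (isConj_iff.2 ⟨g⁻¹, rfl⟩).trans (conj_of_cent d (by rw [conj_mul, b.zz]; simp)
      (fun k => b.z1 (conj_eq_one_iff.1 k)) (fun p hp => ?_) hx)
    obtain ⟨a, rfl⟩ := hr p hp
    have := (GW.mem_Cen.1 (cj_le_iff.1 hg (ι a) ⟨a, trivial, rfl⟩)).eq
    rw [← coe_mul, ← coe_mul]
    congr 1
    calc ι a * (g⁻¹ * z * g⁻¹⁻¹) = g⁻¹ * (g * ι a * g⁻¹ * z) * g := by group
      _ = _ := by rw [← this]; group
  refine b.not_mul (k (0, 1, 0) (by decide)) (k (0, 0, 1) (by decide))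
    (Subtype.ext (c.ε_comm _ _)) ?_
  have := k ((0, 1, 0) + (0, 0, 1)) (by decide)
  rwa [show eX c ((0, 1, 0) + (0, 0, 1)) = eX c (0, 1, 0) * eX c (0, 0, 1) from
    Subtype.ext (c.ε_add _ _)] at this

end Cfsg.Agent.GMS
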